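import Groth.Agent.L15.TypeRLe.Split
import Groth.Agent.L14.Splitting.Etale
import Groth.Agent.L08.Borel.MaxTorusDesc
import Mathlib.AlgebraicGeometry.Morphisms.UniversallyOpen

/-!
For two subgroups of type (R) containing a maximal torus, the points where the first geometric fibre lies in the
second form an open and closed set, and over it the first subgroup lies in the second.
-/

set_option autoImplicit false
set_option linter.style.haveILetI false
set_option linter.unusedSectionVars false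
set_option backward.isDefEq.respectTransparency.types false
set_option maxHeartbeats 1000000
universe u

open CategoryTheory CategoryTheory.Limits AlgebraicGeometry MonoidalCategory CartesianMonoidalCategory MonObj
open Groth.L25 Groth.L14 Groth.L14.TypeR

noncomputable section

namespace Groth.L15.TypeRLe

theorem geomPt_closedPoint {S : Scheme.{u}} (s : S) (w : ↥(Spec (CommRingCat.of (AlgebraicClosure (S.residueField s))))) :
    Red.geomPt s w = s := by
  show (Spec.map _ ≫ S.fromSpecResidueField s) w = s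
  rw [Scheme.Hom.comp_apply]
  exact S.fromSpecResidueField_apply s _

theorem flat_to_field {K : Type u} [Field K] {X : Scheme.{u}} (θ : X ⟶ Spec (CommRingCat.of K)) : Flat θ := by
  infer_instance

variable {S : Scheme.{u}} {G T H H' : Over S} [GrpObj G] [GrpObj T] [GrpObj H] [GrpObj H']

/-- At every point there is an etale neighbourhood with a clopen subset cutting out the inclusion. -/
theorem exists_chart (hG : Red.IsReductive G) (i : T ⟶ G) (hT : Red.IsMaximalTorus i) (h : H ⟶ G) (h' : H' ⟶ G)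
    (hH : RedSub.IsTypeR h) (hH' : RedSub.IsTypeR h') (t : T ⟶ H) (t' : T ⟶ H') (ht : t ≫ h = i) (ht' : t' ≫ h' = i)
    (s : S) :
    ∃ (V : Scheme.{u}) (f : V ⟶ S) (_ : Etale f), s ∈ Set.range f.base ∧
      ∃ W : V.Opens, IsClosed (W : Set V) ∧ (∀ v, v ∈ W ↔ Le h h' (Red.geomPt (f v))) ∧ Le h h' (W.ι ≫ f) := by
  haveI := hH.1.1; haveI := hH.1.2; haveI := hH.2.1
  haveI := hH'.1.1; haveI := hH'.1.2; haveI := hH'.2.1
  obtain ⟨V, f, hf, r, hs, hGf, hTf, ⟨R⟩⟩ := Groth.L14.Splitting.exists_rootData_etale hG i hT s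
  haveI : Nonempty V := ⟨hs.choose⟩
  let D : Red.SplitRed (Red.bc f G) := R.splitRed (fun _ => trivial) hGf hTf
  haveI : IsMonHom ((Over.pullback f).map h) := Groth.L25.MonoClosed.isMonHom_pullbackMap _ _
  haveI : IsMonHom ((Over.pullback f).map h') := Groth.L25.MonoClosed.isMonHom_pullbackMap _ _
  have hh : IsImmersion ((Over.pullback f).map h).left :=
    MorphismProperty.overPullbackMap (P := @IsImmersion) f h hH.1.2
  have hh' : IsImmersion ((Over.pullback f).map h').left :=
    MorphismProperty.overPullbackMap (P := @IsImmersion) f h' hH'.1.2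
  haveI : Smooth (Red.bc f H).hom := MorphismProperty.pullback_snd (P := @Smooth) _ _ hH.2.1
  haveI : Smooth (Red.bc f H').hom := MorphismProperty.pullback_snd (P := @Smooth) _ _ hH'.2.1
  have hconn : RedSub.HasConnectedFibres (Red.bc f H) :=
    fun v => Extension.isConnected_fibre_bc f H hH.2.2.2.1 v
  have htf : ((Over.pullback f).map t : D.T ⟶ Red.bc f H) ≫ (Over.pullback f).map h = D.i := by
    show (Over.pullback f).map t ≫ (Over.pullback f).map h = (Over.pullback f).map i
    rw [← Functor.map_comp, ht]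
  have htf' : ((Over.pullback f).map t' : D.T ⟶ Red.bc f H') ≫ (Over.pullback f).map h' = D.i := by
    show (Over.pullback f).map t' ≫ (Over.pullback f).map h' = (Over.pullback f).map i
    rw [← Functor.map_comp, ht']
  have hW := isClopen_tanLe (D := D) hh hh' _ htf _ htf'
  let W : V.Opens := ⟨_, hW.2⟩
  have hle : Le h h' (W.ι ≫ f) :=
    (le_bc_iff W.ι).1 (le_of_tanAt (D := D) hh hconn hh' _ htf _ htf' W.ι fun w c => w.2 c)
  refine ⟨V, f, hf, hs, W, hW.1, fun v => ?_, hle⟩
  obtain ⟨θ, hθ⟩ := Groth.L08.Borel.exists_geomPt_map f v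
  refine ⟨fun hv => ?_, fun hv c hc => ?_⟩
  · refine le_of_local fun y => ⟨_, θ, flat_to_field θ, ⟨IsLocalRing.closedPoint _, Subsingleton.elim _ _⟩, ?_⟩
    have hr : Set.range (Red.geomPt v) ⊆ Set.range W.ι := by
      rintro _ ⟨w, rfl⟩
      rw [Scheme.Opens.range_ι, geomPt_closedPoint]
      exact hv
    rw [hθ, ← IsOpenImmersion.lift_fac W.ι (Red.geomPt v) hr, Category.assoc]
    exact le_comp hle _
  · exact tanAt_mono ((le_bc_iff (j := f) (Red.geomPt v)).2 (hθ ▸ le_comp hv θ)) c hc

/-- The locus where the geometric fibre of `H` lies in that of `H'` is open and closed. -/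
theorem isClopen_le (hG : Red.IsReductive G) (i : T ⟶ G) (hT : Red.IsMaximalTorus i) (h : H ⟶ G) (h' : H' ⟶ G)
    (hH : RedSub.IsTypeR h) (hH' : RedSub.IsTypeR h') (t : T ⟶ H) (t' : T ⟶ H') (ht : t ≫ h = i)
    (ht' : t' ≫ h' = i) : IsClopen {s : S | Le h h' (Red.geomPt s)} := by
  constructor
  · rw [← isOpen_compl_iff, isOpen_iff_forall_mem_open]
    intro s hs
    obtain ⟨V, f, hf, ⟨v, rfl⟩, W, hWc, hW, -⟩ := exists_chart hG i hT h h' hH hH' t t' ht ht' s
    refine ⟨f '' (W : Set V)ᶜ, ?_, f.isOpenMap _ hWc.isOpen_compl, ⟨v, fun hv => hs ((hW v).1 hv), rfl⟩⟩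
    rintro _ ⟨w, hw, rfl⟩ hle
    exact hw ((hW w).2 hle)
  · rw [isOpen_iff_forall_mem_open]
    intro s hs
    obtain ⟨V, f, hf, ⟨v, rfl⟩, W, -, hW, -⟩ := exists_chart hG i hT h h' hH hH' t t' ht ht' s
    refine ⟨f '' (W : Set V), ?_, f.isOpenMap _ W.2, ⟨v, (hW v).2 hs, rfl⟩⟩
    rintro _ ⟨w, hw, rfl⟩
    exact (hW w).1 hw

/-- Over an open set where the geometric fibres of `H` lie in those of `H'`, so does `H`. -/
theorem le_of_fibres (hG : Red.IsReductive G) (i : T ⟶ G) (hT : Red.IsMaximalTorus i) (h : H ⟶ G) (h' : H' ⟶ G)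
    (hH : RedSub.IsTypeR h) (hH' : RedSub.IsTypeR h') (t : T ⟶ H) (t' : T ⟶ H') (ht : t ≫ h = i) (ht' : t' ≫ h' = i)
    (U : S.Opens) (hU : ∀ s ∈ U, Le h h' (Red.geomPt s)) : Le h h' U.ι := by
  haveI := hH'.1.2
  refine le_of_local fun x => ?_
  obtain ⟨V, f, hf, ⟨v, hv⟩, W, -, hW, hle⟩ := exists_chart hG i hT h h' hH hH' t t' ht ht' (U.ι x)
  have hvW : v ∈ W := (hW v).2 (by rw [show f v = U.ι x from hv]; exact hU _ x.2)
  obtain ⟨q, hq, -⟩ := Scheme.Pullback.exists_preimage_pullback (f := U.ι) (g := W.ι ≫ f) x ⟨v, hvW⟩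
    (by rw [Scheme.Hom.comp_apply]; exact hv.symm)
  exact ⟨_, pullback.fst U.ι (W.ι ≫ f), MorphismProperty.pullback_fst (P := @Flat) _ _ inferInstance, ⟨q, hq⟩,
    by rw [pullback.condition]; exact le_comp hle _⟩

end Groth.L15.TypeRLe

end
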