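import Groth.Agent.L14.RankOne.NonComm
import Groth.Agent.L15.OmegaGen.Light

/-!
A morphism factors through an immersion as soon as it does so flat-locally on the base
(no finiteness or quasi-compactness of the covering family is needed).
-/

set_option autoImplicit false
set_option linter.style.haveILetI false
set_option linter.unusedSectionVars false
set_option backward.isDefEq.respectTransparency.types false
universe u

open CategoryTheory CategoryTheory.Limits AlgebraicGeometry

noncomputable section

namespace Groth.L15.TypeRLe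

/-- An immersion through which flat morphisms covering the target factor is an isomorphism. -/
theorem isIso_of_flat_lifts {Y P : Scheme.{u}} (i : P ⟶ Y) [IsImmersion i]
    (h : ∀ a : Y, ∃ (Q : Scheme.{u}) (σ : Q ⟶ P) (_ : Flat (σ ≫ i)) (q : Q), (σ ≫ i) q = a) : IsIso i := by
  have hsurj : Function.Surjective i := fun a => by
    obtain ⟨Q, σ, -, q, hq⟩ := h a
    exact ⟨σ q, by rw [← Scheme.Hom.comp_apply, hq]⟩
  haveI : Surjective i := ⟨hsurj⟩
  haveI : ∀ p, IsIso (i.stalkMap p) := fun p => by
    obtain ⟨Q, σ, hf, q, hq⟩ := h (i p)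
    haveI := hf
    have hp : σ q = p := i.isEmbedding.injective (by rw [← Scheme.Hom.comp_apply, hq])
    subst hp
    refine (ConcreteCategory.isIso_iff_bijective _).2 ⟨?_, i.stalkMap_surjective _⟩
    algebraize [((σ ≫ i).stalkMap q).hom]
    haveI : Module.FaithfullyFlat (Y.presheaf.stalk ((σ ≫ i) q)) (Q.presheaf.stalk q) :=
      @Module.FaithfullyFlat.of_flat_of_isLocalHom _ _ _ _ _ _ _
        (Flat.stalkMap (σ ≫ i) q) ((σ ≫ i).toLRSHom.prop q)
    have hinj : Function.Injective ((σ ≫ i).stalkMap q).hom := ‹RingHom.FaithfullyFlat _›.injective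
    rw [Scheme.Hom.stalkMap_comp] at hinj
    exact Function.Injective.of_comp (f := (σ.stalkMap q).hom) hinj
  haveI : IsOpenImmersion i := IsOpenImmersion.of_isIso_stalkMap (f := i) ⟨i.isEmbedding,
    (Set.range_eq_univ.2 hsurj) ▸ isOpen_univ⟩
  haveI : Epi i.base := (TopCat.epi_iff_surjective _).2 hsurj
  exact IsOpenImmersion.isIso i

variable {S : Scheme.{u}} {G H H' : Over S}

/-- Factorisation through an immersion is flat-local on the base. -/
theorem exists_hom_of_local (h : H ⟶ G) (h' : H' ⟶ G) [IsImmersion h'.left]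
    (hloc : ∀ x : S, ∃ (V : Scheme.{u}) (j : V ⟶ S) (_ : Flat j), x ∈ Set.range j.base ∧
      ∃ f : Red.bc j H ⟶ Red.bc j H', f ≫ (Over.pullback j).map h' = (Over.pullback j).map h) :
    ∃ φ : H ⟶ H', φ ≫ h' = h := by
  let i := pullback.fst h.left h'.left
  haveI : IsIso i := isIso_of_flat_lifts i fun a => by
    obtain ⟨V, j, hj, ⟨v, hv⟩, f, hf⟩ := hloc (H.hom a)
    obtain ⟨q, hq, -⟩ := Scheme.Pullback.exists_preimage_pullback (f := H.hom) (g := j) a v hv.symm
    have hw : pullback.fst H.hom j ≫ h.left = (f.left ≫ pullback.fst H'.hom j) ≫ h'.left := by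
      have h1 : (f ≫ (Over.pullback j).map h').left ≫ pullback.fst G.hom j =
          ((Over.pullback j).map h).left ≫ pullback.fst G.hom j := by rw [hf]
      have e1 : ((Over.pullback j).map h).left ≫ pullback.fst G.hom j = pullback.fst H.hom j ≫ h.left :=
        pullback.lift_fst _ _ _
      have e2 : ((Over.pullback j).map h').left ≫ pullback.fst G.hom j = pullback.fst H'.hom j ≫ h'.left :=
        pullback.lift_fst _ _ _
      rw [e1, Over.comp_left, Category.assoc, e2] at h1
      exact h1.symm.trans (Category.assoc _ _ _).symm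
    let σ : pullback H.hom j ⟶ pullback h.left h'.left :=
      pullback.lift (pullback.fst H.hom j) (f.left ≫ pullback.fst H'.hom j) hw
    have hσ : σ ≫ i = pullback.fst H.hom j := pullback.lift_fst _ _ _
    exact ⟨_, σ, hσ ▸ (MorphismProperty.pullback_fst _ _ hj : Flat (pullback.fst H.hom j)), q, by
      rw [hσ]; exact hq⟩
  have hc : inv i ≫ pullback.snd h.left h'.left ≫ h'.left = h.left := by
    rw [← pullback.condition, IsIso.inv_hom_id_assoc]
  refine ⟨Over.homMk (inv i ≫ pullback.snd h.left h'.left) ?_, Over.OverMorphism.ext ?_⟩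
  · rw [← Over.w h', Category.assoc, ← Category.assoc (pullback.snd h.left h'.left), ← Category.assoc (inv i),
      hc, Over.w h]
  · exact (Category.assoc _ _ _).trans hc

/-- Factorisation through an immersion can be checked after base change to all local rings of the base. -/
theorem exists_hom_of_stalks (h : H ⟶ G) (h' : H' ⟶ G) [IsImmersion h'.left]
    (hloc : ∀ x : S, ∃ f : Red.bc (S.fromSpecStalk x) H ⟶ Red.bc (S.fromSpecStalk x) H',
      f ≫ (Over.pullback (S.fromSpecStalk x)).map h' = (Over.pullback (S.fromSpecStalk x)).map h) :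
    ∃ φ : H ⟶ H', φ ≫ h' = h :=
  exists_hom_of_local h h' fun x => ⟨_, S.fromSpecStalk x, Groth.L15.OmegaGen.flat_fromSpecStalk x,
    ⟨IsLocalRing.closedPoint _, Scheme.fromSpecStalk_closedPoint⟩, hloc x⟩

end Groth.L15.TypeRLe

end
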