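import Groth.Agent.L15.TypeRLe.Factor
import Groth.Agent.L14.Luna.SemiRank.SplitField

/-!
The relation `H_X ⊆ H'_X` of two subobjects of `G` after a base change, through points.
-/

set_option autoImplicit false
set_option linter.style.haveILetI false
set_option linter.unusedSectionVars false
set_option backward.isDefEq.respectTransparency.types false
universe u

open CategoryTheory CategoryTheory.Limits AlgebraicGeometry
open Groth.L25 Groth.L14

noncomputable section

namespace Groth.L15.TypeRLe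

variable {S V W : Scheme.{u}} {G H H' : Over S}

/-- Every point of `H` lying over `j` lies in `H'`. -/
def Le (h : H ⟶ G) (h' : H' ⟶ G) (j : V ⟶ S) : Prop :=
  ∀ X : Over S, (∃ φ : X.left ⟶ V, φ ≫ j = X.hom) → ∀ x : X ⟶ H, ∃ z : X ⟶ H', z ≫ h' = x ≫ h

variable {h : H ⟶ G} {h' : H' ⟶ G} {j : V ⟶ S}

theorem le_comp (hle : Le h h' j) (k : W ⟶ V) : Le h h' (k ≫ j) :=
  fun X ⟨φ, hφ⟩ x => hle X ⟨φ ≫ k, by rw [Category.assoc, hφ]⟩ x

theorem le_of_hom (f : Red.bc j H ⟶ Red.bc j H') (hf : f ≫ (Over.pullback j).map h' = (Over.pullback j).map h) :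
    Le h h' j := by
  rintro X ⟨φ, hφ⟩ x
  let e : X ≅ (Over.mk ((Over.mk φ : Over V).hom ≫ j) : Over S) :=
    Over.isoMk (Iso.refl _) (by show 𝟙 _ ≫ φ ≫ j = _; rw [Category.id_comp, hφ])
  refine ⟨e.hom ≫ NilAction.toBase j (NilAction.ofBase j (Y := Over.mk φ) (e.inv ≫ x) ≫ f), ?_⟩
  rw [Category.assoc, ← Groth.L14.RankOne.toBase_comp_map, Category.assoc, hf,
    Groth.L14.RankOne.toBase_comp_map, NilAction.toBase_ofBase, ← Category.assoc, Iso.hom_inv_id_assoc]

theorem hom_of_le (hle : Le h h' j) :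
    ∃ f : Red.bc j H ⟶ Red.bc j H', f ≫ (Over.pullback j).map h' = (Over.pullback j).map h := by
  obtain ⟨z, hz⟩ := hle (Over.mk ((Red.bc j H).hom ≫ j)) ⟨(Red.bc j H).hom, rfl⟩
    (NilAction.toBase j (𝟙 (Red.bc j H)))
  refine ⟨NilAction.ofBase j z, Luna.SemiRank.toBase_inj j ?_⟩
  rw [Groth.L14.RankOne.toBase_comp_map, NilAction.toBase_ofBase, hz, ← Groth.L14.RankOne.toBase_comp_map,
    Category.id_comp]

theorem le_bc_iff (k : W ⟶ V) :
    Le ((Over.pullback j).map h) ((Over.pullback j).map h') k ↔ Le h h' (k ≫ j) := by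
  refine ⟨fun hle => ?_, fun hle => ?_⟩
  · rintro X ⟨φ, hφ⟩ x
    let e : X ≅ (Over.mk ((Over.mk (φ ≫ k) : Over V).hom ≫ j) : Over S) :=
      Over.isoMk (Iso.refl _) (by show 𝟙 _ ≫ (φ ≫ k) ≫ j = _; rw [Category.id_comp, Category.assoc, hφ])
    obtain ⟨z, hz⟩ := hle (Over.mk (φ ≫ k)) ⟨φ, rfl⟩ (NilAction.ofBase j (e.inv ≫ x))
    refine ⟨e.hom ≫ NilAction.toBase j z, ?_⟩
    rw [Category.assoc, ← Groth.L14.RankOne.toBase_comp_map, hz, Groth.L14.RankOne.toBase_comp_map,
      NilAction.toBase_ofBase, ← Category.assoc, Iso.hom_inv_id_assoc]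
  · rintro X ⟨φ, hφ⟩ x
    obtain ⟨z, hz⟩ := hle (Over.mk (X.hom ≫ j)) ⟨φ, by rw [← Category.assoc, hφ]; rfl⟩ (NilAction.toBase j x)
    refine ⟨NilAction.ofBase j z, Luna.SemiRank.toBase_inj j ?_⟩
    rw [Groth.L14.RankOne.toBase_comp_map, NilAction.toBase_ofBase, hz, ← Groth.L14.RankOne.toBase_comp_map]

/-- The relation is flat-local on the base. -/
theorem le_of_local [IsImmersion h'.left]
    (hloc : ∀ x : V, ∃ (W : Scheme.{u}) (k : W ⟶ V) (_ : Flat k), x ∈ Set.range k.base ∧ Le h h' (k ≫ j)) :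
    Le h h' j := by
  haveI : IsImmersion ((Over.pullback j).map h').left :=
    MorphismProperty.overPullbackMap (P := @IsImmersion) j h' ‹_›
  obtain ⟨φ, hφ⟩ := exists_hom_of_local ((Over.pullback j).map h) ((Over.pullback j).map h') fun x => by
    obtain ⟨W, k, hk, hx, hle⟩ := hloc x
    exact ⟨W, k, hk, hx, hom_of_le ((le_bc_iff k).2 hle)⟩
  exact le_of_hom φ hφ

/-- Two subobjects each contained in the other after base change are isomorphic after base change. -/
theorem exists_iso_of_le (hh : IsImmersion h.left) (hh' : IsImmersion h'.left) (h1 : Le h h' j) (h2 : Le h' h j) :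
    ∃ e : Red.bc j H ≅ Red.bc j H', e.hom ≫ (Over.pullback j).map h' = (Over.pullback j).map h := by
  haveI : IsImmersion ((Over.pullback j).map h).left :=
    MorphismProperty.overPullbackMap (P := @IsImmersion) j h hh
  haveI : IsImmersion ((Over.pullback j).map h').left :=
    MorphismProperty.overPullbackMap (P := @IsImmersion) j h' hh'
  haveI : Mono ((Over.pullback j).map h) := Over.mono_of_mono_left _
  haveI : Mono ((Over.pullback j).map h') := Over.mono_of_mono_left _
  obtain ⟨f, hf⟩ := hom_of_le h1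
  obtain ⟨g, hg⟩ := hom_of_le h2
  exact ⟨⟨f, g, (cancel_mono ((Over.pullback j).map h)).1 (by rw [Category.assoc, hg, hf, Category.id_comp]),
    (cancel_mono ((Over.pullback j).map h')).1 (by rw [Category.assoc, hf, hg, Category.id_comp])⟩, hf⟩

end Groth.L15.TypeRLe

end
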