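import Groth.Agent.L15.TypeRLe.Le
import Groth.Agent.L14.TypeR.Contain
import Groth.Agent.L14.BorelLoc.TanPoint
import Groth.Agent.L25.Extension.ConnBC
import Groth.Agent.L14.AlmostSimple.Torus

/-!
For a split group, the locus where one subgroup of type (R) containing the torus lies in another is cut out
by tangent roots; no connectedness or noetherianity of the base is needed.
-/

set_option autoImplicit false
set_option linter.style.haveILetI false
set_option linter.unusedSectionVars false
set_option backward.isDefEq.respectTransparency.types false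
set_option maxHeartbeats 1000000
universe u

open CategoryTheory CategoryTheory.Limits AlgebraicGeometry MonoidalCategory CartesianMonoidalCategory MonObj
open Groth.L14.RankOne Groth.L25 Groth.L14.Chart Groth.L14.Chev.Cell Groth.L14.TypeR Groth.L14.BorelLoc Groth.L14

noncomputable section

namespace Groth.L15.TypeRLe

variable {S : Scheme.{u}} {G H H' : Over S} [GrpObj G] [GrpObj H] [GrpObj H'] {D : Red.SplitRed G}
  {h : H ⟶ G} [IsMonHom h] {h' : H' ⟶ G} [IsMonHom h']

/-- A tangent root of the smaller subgroup is one of the larger. -/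
theorem tanAt_mono {K : Type u} [Field K] {g : Spec (CommRingCat.of K) ⟶ S} (hle : Le h h' g) (c : D.idx)
    (hc : TanAt D h g c) : TanAt D h' g c := by
  obtain ⟨y, hy⟩ := mem_HP.1 hc
  obtain ⟨z, hz⟩ := hle _ ⟨_, rfl⟩ y
  exact mem_HP.2 ⟨z, hz.trans hy⟩

theorem preconnectedSpace_spec (R : CommRingCat.{u}) [IsLocalRing R] : PreconnectedSpace ↥(Spec R) :=
  ⟨isPreconnected_of_forall (IsLocalRing.closedPoint R) fun y _ =>
    ⟨closure {y}, Set.subset_univ _, (IsLocalRing.specializes_closedPoint y).mem_closure,
      subset_closure rfl, isPreconnected_singleton.closure⟩⟩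

variable {V : Scheme.{u}}

/-- The tangent roots of a base change at a point. -/
theorem tanAt_bc_geomPt {n m : ℕ} {b : D.P.Base} {eneg : Fin n → D.idx} {epos : Fin m → D.idx}
    (hneg : RedSub.Enumerates (RedSub.negRoots D.P b) eneg) (hpos : RedSub.Enumerates (RedSub.posRoots D.P b) epos)
    (j : V ⟶ S) (hh : IsImmersion h.left) [Smooth H.hom] [IsMonHom ((Over.pullback j).map h)] (v : V) (c : D.idx) :
    TanAt (splitBC j D) ((Over.pullback j).map h) (Red.geomPt v) c ↔ TanAt D h (Red.geomPt (j v)) c := by
  rw [show TanAt (splitBC j D) ((Over.pullback j).map h) (Red.geomPt v) c ↔ _ from tanAt_bc j _ c,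
    tanAt_point_iff hneg hpos hh]
  have e : (Red.geomPt v ≫ j) (IsLocalRing.closedPoint _) = j v := by
    rw [Scheme.Hom.comp_apply]
    congr 1
    show (Spec.map _ ≫ V.fromSpecResidueField v) _ = v
    rw [Scheme.Hom.comp_apply]
    exact V.fromSpecResidueField_apply v _
  rw [e]

/-- Containment is read on the tangent roots at every point. -/
theorem le_of_tanAt (hh : IsImmersion h.left) [Smooth H.hom] (hconn : RedSub.HasConnectedFibres H)
    (hh' : IsImmersion h'.left) [Smooth H'.hom] (t : D.T ⟶ H) (ht : t ≫ h = D.i) (t' : D.T ⟶ H') (ht' : t' ≫ h' = D.i)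
    (j : V ⟶ S) (hyp : ∀ v c, TanAt D h (Red.geomPt (j v)) c → TanAt D h' (Red.geomPt (j v)) c) : Le h h' j := by
  haveI := hh'
  refine le_of_local fun v => ⟨_, V.fromSpecStalk v, Groth.L15.OmegaGen.flat_fromSpecStalk v,
    ⟨IsLocalRing.closedPoint _, Scheme.fromSpecStalk_closedPoint⟩, ?_⟩
  let g := V.fromSpecStalk v ≫ j
  haveI : PreconnectedSpace ↥(Spec (V.presheaf.stalk v)) := preconnectedSpace_spec _
  haveI : Nonempty ↥(Spec (V.presheaf.stalk v)) := ⟨IsLocalRing.closedPoint _⟩
  haveI : Nonempty S := ⟨j v⟩
  obtain ⟨b⟩ := AlmostSimple.exists_base D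
  obtain ⟨n, en, hen⟩ := exists_enum (D := D) (RedSub.negRoots D.P b)
  obtain ⟨m, ep, hep⟩ := exists_enum (D := D) (RedSub.posRoots D.P b)
  haveI : IsMonHom ((Over.pullback g).map h) := Groth.L25.MonoClosed.isMonHom_pullbackMap _ _
  haveI : IsMonHom ((Over.pullback g).map h') := Groth.L25.MonoClosed.isMonHom_pullbackMap _ _
  haveI : IsImmersion ((Over.pullback g).map h).left :=
    MorphismProperty.overPullbackMap (P := @IsImmersion) g h hh
  haveI : IsImmersion ((Over.pullback g).map h').left :=
    MorphismProperty.overPullbackMap (P := @IsImmersion) g h' hh'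
  haveI : Smooth (Red.bc g H).hom := MorphismProperty.pullback_snd (P := @Smooth) _ _ ‹Smooth H.hom›
  haveI : Smooth (Red.bc g H').hom := MorphismProperty.pullback_snd (P := @Smooth) _ _ ‹Smooth H'.hom›
  have htb : (Over.pullback g).map t ≫ (Over.pullback g).map h = (Over.pullback g).map D.i := by
    rw [← Functor.map_comp, ht]
  have htb' : (Over.pullback g).map t' ≫ (Over.pullback g).map h' = (Over.pullback g).map D.i := by
    rw [← Functor.map_comp, ht']
  obtain ⟨f, hf⟩ := exists_hom_of_roots (D := splitBC g D) (h := (Over.pullback g).map h) inferInstance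
    (fun s => Extension.isConnected_fibre_bc g H hconn s) ((Over.pullback g).map t) htb b
    ((Over.pullback g).map h') ((Over.pullback g).map t') htb' fun a ha => by
      have hw := (mem_tanRoots_bc_iff hen hep g hh a).1
        ((mem_tanRoots_iff (D := splitBC g D) (b := b) hen hep inferInstance _ htb a).1 ha)
      refine (mem_tanRoots_iff (D := splitBC g D) (b := b) hen hep inferInstance _ htb' a).2
        ((mem_tanRoots_bc_iff hen hep g hh' a).2 fun w => ?_)
      have hw' := hw w
      rw [show g w = j (V.fromSpecStalk v w) from Scheme.Hom.comp_apply _ _ _] at hw' ⊢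
      exact hyp _ a hw'
  exact le_of_hom f hf

/-- The points where the tangent roots of `h` are among those of `h'` form an open and closed set. -/
theorem isClopen_tanLe [Nonempty S] (hh : IsImmersion h.left) [Smooth H.hom] (hh' : IsImmersion h'.left)
    [Smooth H'.hom] (t : D.T ⟶ H) (ht : t ≫ h = D.i) (t' : D.T ⟶ H') (ht' : t' ≫ h' = D.i) :
    IsClopen {x : S | ∀ c, TanAt D h (Red.geomPt x) c → TanAt D h' (Red.geomPt x) c} := by
  classical
  obtain ⟨b⟩ := AlmostSimple.exists_base D
  obtain ⟨n, en, hen⟩ := exists_enum (D := D) (RedSub.negRoots D.P b)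
  obtain ⟨m, ep, hep⟩ := exists_enum (D := D) (RedSub.posRoots D.P b)
  have heq : {x : S | ∀ c, TanAt D h (Red.geomPt x) c → TanAt D h' (Red.geomPt x) c} =
      ⋂ c, ({x : S | TanAt D h (Red.geomPt x) c}ᶜ ∪ {x : S | TanAt D h' (Red.geomPt x) c}) := by
    ext x
    simp [imp_iff_not_or]
  rw [heq]
  exact isClopen_iInter_of_finite fun c =>
    (isClopen_tanAt hen hep hh t ht c).compl.union (isClopen_tanAt hen hep hh' t' ht' c)

end Groth.L15.TypeRLe

end
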